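import Groth.Agent.HopfPointsLib.Extend

/-!
# Comodule algebras which are torsors: points over an algebraically closed field
-/

set_option autoImplicit false
set_option linter.style.haveILetI false
set_option backward.isDefEq.respectTransparency false
set_option backward.isDefEq.respectTransparency.types false
set_option maxSynthPendingDepth 4

noncomputable section

universe u

open TensorProduct
open Groth.Agent.HopfFF

namespace Groth.Agent.AffTorsPt

variable {k : Type u} [Field k] {H A : Type u} [CommRing H] [HopfAlgebra k H] [CommRing A] [Algebra k A]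
  (ρ : A →ₐ[k] H ⊗[k] A)

/-- The shearing map of a coaction. -/
def shear : A ⊗[k] A →ₐ[k] H ⊗[k] A :=
  Algebra.TensorProduct.lift ρ Algebra.TensorProduct.includeRight fun _ _ => .all _ _

/-- The coaction twice. -/
def coassocR : A →ₐ[k] H ⊗[k] (H ⊗[k] A) := (Algebra.TensorProduct.map (AlgHom.id k H) ρ).comp ρ

/-- Comultiplication on the first factor. -/
def dbl : H ⊗[k] A →ₐ[k] H ⊗[k] (H ⊗[k] A) :=
  Algebra.TensorProduct.lift
    ((Algebra.TensorProduct.map (AlgHom.id k H) Algebra.TensorProduct.includeLeft).comp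
      (Bialgebra.comulAlgHom k H))
    (Algebra.TensorProduct.includeRight.comp Algebra.TensorProduct.includeRight) fun _ _ => .all _ _

/-- The part of `H ⊗ A` over a subalgebra of `H`. -/
def part (S : Subalgebra k H) : Subalgebra k (H ⊗[k] A) :=
  (Algebra.TensorProduct.map S.val (AlgHom.id k A)).range

/-- The elements coacting through a subalgebra. -/
def sub (S : Subalgebra k H) : Subalgebra k A := (part S).comap ρ

/-- The part of `A ⊗ A` over a subalgebra of `A`. -/
def part₂ (B : Subalgebra k A) : Subalgebra k (A ⊗[k] A) :=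
  (Algebra.TensorProduct.map B.val (AlgHom.id k A)).range

theorem mem_sub {S : Subalgebra k H} {a : A} : a ∈ sub ρ S ↔ ρ a ∈ part S := Iff.rfl

theorem part₂_mono {B B' : Subalgebra k A} (h : B ≤ B') : part₂ B ≤ part₂ B' := by
  rintro _ ⟨z, rfl⟩
  refine ⟨Algebra.TensorProduct.map (Subalgebra.inclusion h) (AlgHom.id k A) z, ?_⟩
  show (Algebra.TensorProduct.map B'.val (AlgHom.id k A)) _ = Algebra.TensorProduct.map B.val (AlgHom.id k A) z
  rw [← AlgHom.comp_apply, ← Algebra.TensorProduct.map_comp]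
  rfl

theorem part_mono {B B' : Subalgebra k H} (h : B ≤ B') : part (A := A) B ≤ part B' := by
  rintro _ ⟨z, rfl⟩
  refine ⟨Algebra.TensorProduct.map (Subalgebra.inclusion h) (AlgHom.id k A) z, ?_⟩
  show (Algebra.TensorProduct.map B'.val (AlgHom.id k A)) _ = Algebra.TensorProduct.map B.val (AlgHom.id k A) z
  rw [← AlgHom.comp_apply, ← Algebra.TensorProduct.map_comp]
  rfl

theorem sub_mono {B B' : Subalgebra k H} (h : B ≤ B') : sub ρ B ≤ sub ρ B' := fun _ ha => part_mono h ha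

theorem sub_top : sub ρ (⊤ : Subalgebra k H) = ⊤ := by
  refine top_le_iff.1 fun a _ => ?_
  refine ⟨Algebra.TensorProduct.map ((AlgHom.id k H).codRestrict ⊤ fun _ => Algebra.mem_top) (AlgHom.id k A) (ρ a), ?_⟩
  show (Algebra.TensorProduct.map (⊤ : Subalgebra k H).val (AlgHom.id k A)) _ = ρ a
  rw [← AlgHom.comp_apply, ← Algebra.TensorProduct.map_comp, AlgHom.val_comp_codRestrict, AlgHom.id_comp,
    Algebra.TensorProduct.map_id, AlgHom.id_apply]

/-- An element of the first factor lying in the part over a subalgebra lies in the subalgebra. -/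
theorem mem_of_tmul_one_mem [Nontrivial A] {B : Subalgebra k A} {a : A} (h : a ⊗ₜ[k] (1 : A) ∈ part₂ B) : a ∈ B := by
  obtain ⟨lam, hlam⟩ : ∃ lam : A →ₗ[k] k, lam 1 = 1 := by
    obtain ⟨g, hg⟩ := LinearMap.exists_leftInverse_of_injective (Algebra.linearMap k A)
      (LinearMap.ker_eq_bot.2 (algebraMap k A).injective)
    exact ⟨g, by simpa using LinearMap.congr_fun hg 1⟩
  let L : A ⊗[k] A →ₗ[k] A := (TensorProduct.rid k A).toLinearMap ∘ₗ lam.lTensor A
  obtain ⟨z, hz⟩ := h
  have hmem : ∀ z : B ⊗[k] A, L (Algebra.TensorProduct.map B.val (AlgHom.id k A) z) ∈ B := fun z => by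
    induction z using TensorProduct.induction_on with
    | zero => rw [map_zero, map_zero]; exact zero_mem _
    | add x y hx hy => rw [map_add, map_add]; exact add_mem hx hy
    | tmul b c =>
      show lam c • (b : A) ∈ B
      exact Subalgebra.smul_mem _ b.2 _
  have h1 := hmem z
  rw [show Algebra.TensorProduct.map B.val (AlgHom.id k A) z = a ⊗ₜ[k] (1 : A) from hz] at h1
  simpa [L, hlam] using h1

variable {ρ}

theorem shear_tmul (a b : A) : shear ρ (a ⊗ₜ[k] b) = ρ a * ((1 : H) ⊗ₜ[k] b) := by simp [shear]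

variable (hρ : (dbl (k := k)).comp ρ = coassocR ρ) (hbij : Function.Bijective (shear ρ))

include hρ hbij in
/-- What shears into the part over a sub-Hopf-algebra comes from the elements coacting through it. -/
theorem mem_part₂ {S : Subalgebra k H} (hS : IsSubHopf k H S) {x : A ⊗[k] A} (hx : shear ρ x ∈ part S) :
    x ∈ part₂ (sub ρ S) := by
  let q := (Subalgebra.toSubmodule S).mkQ
  have hex₀ : ∀ {M : Type u} [AddCommGroup M] [Module k M] (y : H ⊗[k] M),
      q.rTensor M y = 0 ↔ y ∈ LinearMap.range (S.val.toLinearMap.rTensor M) := fun {M} _ _ y => by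
    have := rTensor_exact M (LinearMap.exact_subtype_mkQ (Subalgebra.toSubmodule S))
      (Submodule.mkQ_surjective _)
    exact this y
  have hpart : ∀ {y : H ⊗[k] A}, y ∈ part S ↔ q.rTensor A y = 0 := fun {y} => by
    rw [hex₀ y]
    have : ∀ z, Algebra.TensorProduct.map S.val (AlgHom.id k A) z = S.val.toLinearMap.rTensor A z := fun z => rfl
    exact exists_congr fun z => by rw [← this]; rfl
  let τ : A →ₗ[k] (H ⧸ Subalgebra.toSubmodule S) ⊗[k] A := q.rTensor A ∘ₗ ρ.toLinearMap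
  have hex₁ : Function.Exact ((sub ρ S).val.toLinearMap) τ := by
    intro a
    refine ⟨fun ha => ⟨⟨a, hpart.2 ha⟩, rfl⟩, ?_⟩
    rintro ⟨b, rfl⟩
    exact hpart.1 b.2
  refine (show x ∈ LinearMap.range ((sub ρ S).val.toLinearMap.rTensor A) → _ from fun ⟨z, hz⟩ => ⟨z, hz⟩) ?_
  refine (Module.Flat.rTensor_exact A hex₁ x).1 ?_
  -- transport through the shearing
  let ψ : (H ⊗[k] A) ⊗[k] A →ₐ[k] H ⊗[k] (H ⊗[k] A) :=
    (Algebra.TensorProduct.map (AlgHom.id k H) (shear ρ)).comp (Algebra.TensorProduct.assoc k k k H A A).toAlgHom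
  have hψ : ψ.comp (Algebra.TensorProduct.map ρ (AlgHom.id k A)) = (dbl (k := k)).comp (shear ρ) := by
    refine Algebra.TensorProduct.ext ?_ ?_
    · refine AlgHom.ext fun a => ?_
      have h1 : dbl (k := k) (ρ a) = coassocR ρ a := AlgHom.congr_fun hρ a
      show ψ (ρ a ⊗ₜ[k] (1 : A)) = dbl (k := k) (shear ρ (a ⊗ₜ[k] (1 : A)))
      rw [show shear ρ (a ⊗ₜ[k] (1 : A)) = ρ a by rw [shear_tmul, ← Algebra.TensorProduct.one_def, mul_one], h1]
      show ψ (ρ a ⊗ₜ[k] (1 : A)) = Algebra.TensorProduct.map (AlgHom.id k H) ρ (ρ a)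
      generalize ρ a = y
      induction y using TensorProduct.induction_on with
      | zero => simp
      | add y y' hy hy' => rw [add_tmul, map_add, map_add, hy, hy']
      | tmul h a' =>
        show ψ ((h ⊗ₜ[k] a') ⊗ₜ[k] (1 : A)) = h ⊗ₜ[k] ρ a'
        show h ⊗ₜ[k] shear ρ (a' ⊗ₜ[k] (1 : A)) = _
        rw [shear_tmul, ← Algebra.TensorProduct.one_def, mul_one]
    · refine AlgHom.ext fun a => ?_
      simp [ψ, shear, dbl, Algebra.TensorProduct.one_def]
  let Ψ : ((H ⧸ Subalgebra.toSubmodule S) ⊗[k] A) ⊗[k] A →ₗ[k] (H ⧸ Subalgebra.toSubmodule S) ⊗[k] (H ⊗[k] A) :=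
    (shear ρ).toLinearMap.lTensor _ ∘ₗ (TensorProduct.assoc k _ A A).toLinearMap
  have hΨ : Function.Injective Ψ :=
    (Module.Flat.lTensor_preserves_injective_linearMap _ hbij.1).comp (TensorProduct.assoc k _ A A).injective
  apply hΨ
  rw [map_zero]
  have hsq : ∀ z : A ⊗[k] A, Ψ (τ.rTensor A z) = q.rTensor (H ⊗[k] A) (dbl (k := k) (shear ρ z)) := fun z => by
    rw [← AlgHom.comp_apply (dbl (k := k)), ← hψ, AlgHom.comp_apply]
    induction z using TensorProduct.induction_on with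
    | zero => simp
    | add y y' hy hy' => simp only [map_add, hy, hy']
    | tmul a b =>
      show Ψ (q.rTensor A (ρ a) ⊗ₜ[k] b) = q.rTensor _ (ψ (ρ a ⊗ₜ[k] b))
      generalize ρ a = y
      induction y using TensorProduct.induction_on with
      | zero => simp
      | add y y' hy hy' => simp only [add_tmul, map_add, hy, hy']
      | tmul h a' => simp [Ψ, ψ]
  rw [hsq]
  obtain ⟨z, hz⟩ := hx
  rw [← hz]
  clear hz
  induction z using TensorProduct.induction_on with
  | zero => simp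
  | add y y' hy hy' => simp only [RingHom.map_add, map_add, hy, hy', add_zero]
  | tmul s b =>
    obtain ⟨w, hw⟩ := hS.1 s s.2
    show q.rTensor _ (dbl (k := k) ((s : H) ⊗ₜ[k] b)) = 0
    simp only [dbl, Algebra.TensorProduct.lift_tmul, AlgHom.comp_apply, Bialgebra.comulAlgHom_apply, ← hw]
    clear hw
    induction w using TensorProduct.induction_on with
    | zero => simp
    | add y y' hy hy' => simp only [map_add, add_mul, hy, hy', add_zero]
    | tmul s₁ s₂ =>
      simp only [TensorProduct.map_tmul, AlgHom.toLinearMap_apply, Algebra.TensorProduct.map_tmul, AlgHom.id_apply,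
        Algebra.TensorProduct.includeLeft_apply, Algebra.TensorProduct.includeRight_apply,
        Algebra.TensorProduct.tmul_mul_tmul, LinearMap.rTensor_tmul, mul_one]
      have h0 : q (s₁ : H) = 0 := (Submodule.Quotient.mk_eq_zero _).2 s₁.2
      simp [h0]

variable [Nontrivial A]

include hρ hbij in
/-- The elements coacting through a finitely generated extension are finitely generated over the smaller ones. -/
theorem exists_finset_sub {S D : Subalgebra k H} (hS : IsSubHopf k H S) (hD : IsSubHopf k H D) (hfg : D.FG) :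
    ∃ G : Finset A, sub ρ (S ⊔ D) = sub ρ S ⊔ Algebra.adjoin k (G : Set A) := by
  classical
  obtain ⟨G₀, hG₀⟩ := hfg
  have hSD := HopfPoints.isSubHopf_sup hS hD
  have hgen : ∀ d : G₀, ∃ G : Finset A, (↑G : Set A) ⊆ sub ρ (S ⊔ D) ∧
      ∃ x ∈ part₂ (Algebra.adjoin k (G : Set A)), shear ρ x = (d : H) ⊗ₜ[k] (1 : A) := by
    intro d
    obtain ⟨x, hx⟩ := hbij.2 ((d : H) ⊗ₜ[k] (1 : A))
    have hmem : shear ρ x ∈ part (S ⊔ D) := by
      rw [hx]
      exact ⟨⟨(d : H), (le_sup_right : D ≤ S ⊔ D) (hG₀ ▸ Algebra.subset_adjoin d.2)⟩ ⊗ₜ[k] (1 : A), rfl⟩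
    obtain ⟨z, hz⟩ := mem_part₂ hρ hbij hSD hmem
    obtain ⟨T, hT⟩ := TensorProduct.exists_finset z
    refine ⟨T.image fun t => ((t.1 : sub ρ (S ⊔ D)) : A), ?_, x, ?_, hx⟩
    · intro a ha
      obtain ⟨t, -, rfl⟩ := Finset.mem_image.1 (Finset.mem_coe.1 ha)
      exact t.1.2
    · rw [← hz, hT, map_sum]
      refine Subalgebra.sum_mem _ fun t ht => ⟨⟨(t.1 : A), Algebra.subset_adjoin ?_⟩ ⊗ₜ[k] t.2, rfl⟩
      exact Finset.mem_coe.2 (Finset.mem_image_of_mem _ ht)
  choose G hG x hx hxd using hgen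
  refine ⟨Finset.univ.biUnion G, le_antisymm ?_ (sup_le (sub_mono ρ le_sup_left) (Algebra.adjoin_le ?_))⟩
  · intro a ha
    let B := sub ρ S ⊔ Algebra.adjoin k ((Finset.univ.biUnion G : Finset A) : Set A)
    let V : Subalgebra k (H ⊗[k] A) := (part₂ B).map (shear ρ)
    have hr : ∀ b : A, (1 : H) ⊗ₜ[k] b ∈ V := fun b =>
      ⟨(1 : A) ⊗ₜ[k] b, ⟨(1 : B) ⊗ₜ[k] b, rfl⟩, by
        show shear ρ ((1 : A) ⊗ₜ[k] b) = _
        rw [shear_tmul, map_one, one_mul]⟩
    have hl : S ⊔ D ≤ V.comap (Algebra.TensorProduct.includeLeft : H →ₐ[k] H ⊗[k] A) := by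
      refine sup_le (fun h hh => ?_) (hG₀ ▸ Algebra.adjoin_le fun d hd => ?_)
      · obtain ⟨y, hy⟩ := hbij.2 (h ⊗ₜ[k] (1 : A))
        exact ⟨y, part₂_mono le_sup_left (mem_part₂ hρ hbij hS (hy ▸ ⟨(⟨h, hh⟩ : S) ⊗ₜ[k] (1 : A), rfl⟩)), hy⟩
      · refine ⟨x ⟨d, hd⟩, part₂_mono (le_trans ?_ le_sup_right) (hx ⟨d, hd⟩), hxd ⟨d, hd⟩⟩
        refine Algebra.adjoin_mono fun c hc => ?_
        exact Finset.mem_coe.2 (Finset.mem_biUnion.2 ⟨⟨d, hd⟩, Finset.mem_univ _, hc⟩)
    have hV : part (S ⊔ D) ≤ V := by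
      rintro _ ⟨z, rfl⟩
      induction z using TensorProduct.induction_on with
      | zero => rw [map_zero]; exact zero_mem _
      | add y y' hy hy' => rw [map_add]; exact add_mem hy hy'
      | tmul h b =>
        have e : (h : H) ⊗ₜ[k] b = ((h : H) ⊗ₜ[k] (1 : A)) * ((1 : H) ⊗ₜ[k] b) := by simp
        show (h : H) ⊗ₜ[k] b ∈ V
        rw [e]
        exact mul_mem (hl h.2) (hr b)
    obtain ⟨y, hy, hya⟩ := hV ha
    refine mem_of_tmul_one_mem (B := B) ?_
    rwa [hbij.1 (a₁ := y) (a₂ := a ⊗ₜ[k] (1 : A)) (hya.trans (by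
      rw [shear_tmul, ← Algebra.TensorProduct.one_def, mul_one]; rfl))] at hy
  · intro c hc
    obtain ⟨d, -, hd⟩ := Finset.mem_biUnion.1 (Finset.mem_coe.1 hc)
    exact hG d hd

include hρ hbij in
/-- The kernel of a point of the elements coacting through a sub-Hopf-algebra generates a proper ideal. -/
theorem map_ker_ne_top {S : Subalgebra k H} (hS : IsSubHopf k H S) (g : sub ρ S →ₐ[k] k) :
    (RingHom.ker g).map (sub ρ S).val ≠ ⊤ := by
  intro htop
  haveI := HopfFF.faithfullyFlat hS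
  let i : S ⊗[k] A →ₐ[k] H ⊗[k] A := Algebra.TensorProduct.map S.val (AlgHom.id k A)
  let ρS : sub ρ S → S ⊗[k] A := fun a => (a.2 : ρ a ∈ part S).choose
  have hρS : ∀ a, i (ρS a) = ρ a := fun a => (a.2 : ρ a ∈ part S).choose_spec
  let J : Ideal (S ⊗[k] A) := Ideal.span (ρS '' (RingHom.ker g : Set (sub ρ S)))
  have h1 : J.map (i : S ⊗[k] A →+* H ⊗[k] A) = ⊤ := by
    refine top_le_iff.1 ?_
    rw [← Ideal.map_top ρ, ← htop]
    refine Ideal.map_le_iff_le_comap.2 (Ideal.map_le_iff_le_comap.2 fun a ha => ?_)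
    rw [Ideal.mem_comap, Ideal.mem_comap]
    show ρ (a : A) ∈ _
    rw [← hρS a]
    exact Ideal.mem_map_of_mem (i : S ⊗[k] A →+* H ⊗[k] A) (Ideal.subset_span ⟨a, ha, rfl⟩)
  let ψ : H ⊗[k] A →ₐ[k] (S ⊗[k] A) ⊗[S] H :=
    Algebra.TensorProduct.lift ((Algebra.TensorProduct.includeRight (R := S) (A := S ⊗[k] A) (B := H)).restrictScalars k)
      (((Algebra.TensorProduct.includeLeft (R := S) (S := S) (A := S ⊗[k] A) (B := H)).restrictScalars k).comp
        Algebra.TensorProduct.includeRight) fun x y => mul_comm (G := (S ⊗[k] A) ⊗[S] H) _ _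
  have hψ : ψ.toRingHom.comp (i : S ⊗[k] A →+* H ⊗[k] A) = algebraMap (S ⊗[k] A) ((S ⊗[k] A) ⊗[S] H) := by
    have : ψ.comp i = ((Algebra.TensorProduct.includeLeft (R := S) (S := S) (A := S ⊗[k] A) (B := H)).restrictScalars k) := by
      refine Algebra.TensorProduct.ext (AlgHom.ext fun s => ?_) (AlgHom.ext fun b => ?_)
      · show ψ ((s : H) ⊗ₜ[k] (1 : A)) = (s ⊗ₜ[k] (1 : A)) ⊗ₜ[S] (1 : H)
        refine ((Algebra.TensorProduct.lift_tmul _ _ _ _ _).trans (congrArg₂ HMul.hMul rfl (map_one _))).trans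
          ((mul_one _).trans ?_)
        show (1 : S ⊗[k] A) ⊗ₜ[S] (s : H) = _
        rw [show (s : H) = s • (1 : H) by rw [Subalgebra.smul_def, smul_eq_mul, mul_one], ← TensorProduct.smul_tmul]
        congr 1
        rw [Algebra.TensorProduct.one_def, TensorProduct.smul_tmul', smul_eq_mul, mul_one]
      · simp [ψ, i, Algebra.TensorProduct.one_def]
    refine RingHom.ext fun z => ?_
    exact AlgHom.congr_fun this z
  have h2 : J.map (algebraMap (S ⊗[k] A) ((S ⊗[k] A) ⊗[S] H)) = ⊤ := by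
    have h3 : (J.map (i : S ⊗[k] A →+* H ⊗[k] A)).map ψ.toRingHom = ⊤ := by
      rw [h1, Ideal.map_top]
    rw [Ideal.map_map] at h3
    rw [← hψ]
    exact h3
  have hJ : (1 : S ⊗[k] A) ∈ J := by
    have := Ideal.comap_map_eq_self_of_faithfullyFlat (A := S ⊗[k] A) (B := (S ⊗[k] A) ⊗[S] H) J
    rw [h2, Ideal.comap_top] at this
    rw [← this]; trivial
  -- pull back along the shearing
  let j : sub ρ S ⊗[k] A →ₐ[k] A ⊗[k] A := Algebra.TensorProduct.map (sub ρ S).val (AlgHom.id k A)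
  have hj : Function.Injective j := Module.Flat.rTensor_preserves_injective_linearMap (M := A)
    (sub ρ S).val.toLinearMap Subtype.val_injective
  let Φ := AlgEquiv.ofBijective (shear ρ) hbij
  have hlift : ∀ z : S ⊗[k] A, ∃ w : sub ρ S ⊗[k] A, j w = Φ.symm (i z) := fun z =>
    mem_part₂ hρ hbij hS (x := Φ.symm (i z)) (by
      rw [show shear ρ (Φ.symm (i z)) = i z from Φ.apply_symm_apply _]
      exact ⟨z, rfl⟩)
  choose w hw using hlift
  let ev : sub ρ S ⊗[k] A →ₐ[k] A :=
    Algebra.TensorProduct.lift ((Algebra.ofId k A).comp g) (AlgHom.id k A) fun _ _ => .all _ _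
  have hkill : ∀ z ∈ J, ev (w z) = 0 := by
    intro z hz
    induction hz using Submodule.span_induction with
    | mem z hz =>
      obtain ⟨a, ha, rfl⟩ := hz
      have : w (ρS a) = a ⊗ₜ[k] (1 : A) := hj (by
        rw [hw, hρS]
        apply Φ.injective
        rw [Φ.apply_symm_apply]
        show ρ a = shear ρ ((a : A) ⊗ₜ[k] (1 : A))
        rw [shear_tmul, ← Algebra.TensorProduct.one_def, mul_one])
      rw [this]
      simp [ev, show g a = 0 from ha]
    | zero =>
      have : w 0 = 0 := hj (by rw [hw, map_zero, map_zero, map_zero])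
      rw [this, map_zero]
    | add x y _ _ hx hy =>
      have : w (x + y) = w x + w y := hj (by rw [map_add, hw, hw, hw, map_add, map_add])
      rw [this, map_add, hx, hy, add_zero]
    | smul r x _ hx =>
      have : w (r • x) = w r * w x := hj (by rw [map_mul, hw, hw, hw, smul_eq_mul, map_mul, map_mul])
      rw [this, map_mul, hx, mul_zero]
  have h4 := hkill 1 hJ
  have : w 1 = 1 := hj (by rw [hw, map_one, map_one, map_one])
  rw [this, map_one] at h4
  exact one_ne_zero h4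

omit [Nontrivial A] in
/-- A point extends over finitely many generators when its kernel generates a proper ideal. -/
theorem exists_extend_of_ne_top [IsAlgClosed k] {C : Subalgebra k A} (g : C →ₐ[k] k)
    (hg : (RingHom.ker g).map C.val ≠ ⊤) (G : Finset A) :
    ∃ g' : ↥(C ⊔ Algebra.adjoin k (G : Set A)) →ₐ[k] k, g'.comp (Subalgebra.inclusion le_sup_left) = g := by
  classical
  obtain ⟨M₀, hM₀, hle₀⟩ := Ideal.exists_le_maximal _ hg
  let E : Subalgebra C A := Algebra.adjoin C (G : Set A)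
  have : Algebra.FiniteType C E := (Subalgebra.fg_iff_finiteType _).1 (Subalgebra.fg_adjoin_finset G)
  let : Algebra C k := g.toRingHom.toAlgebra
  have : IsScalarTower k C k := IsScalarTower.of_algebraMap_eq fun c => (g.commutes c).symm
  let toK : k →ₐ[C] A ⧸ M₀ :=
    { toRingHom := algebraMap k (A ⧸ M₀)
      commutes' := fun c => by
        show algebraMap k (A ⧸ M₀) (g c) = Ideal.Quotient.mk M₀ (c : A)
        rw [IsScalarTower.algebraMap_apply k A (A ⧸ M₀), Ideal.Quotient.algebraMap_eq]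
        refine (Ideal.Quotient.eq.2 (hle₀ ?_))
        have h5 : algebraMap k C (g c) - c ∈ RingHom.ker g := by simp [RingHom.mem_ker]
        exact (map_sub C.val (algebraMap k C (g c)) c).symm ▸ Ideal.mem_map_of_mem C.val h5 }
  haveI : Nontrivial (A ⧸ M₀) := Ideal.Quotient.nontrivial_iff.2 hM₀.ne_top
  have : Nontrivial (k ⊗[C] E) :=
    (Algebra.TensorProduct.lift toK ((IsScalarTower.toAlgHom C A (A ⧸ M₀)).comp E.val)
      fun _ _ => .all _ _).toRingHom.domain_nontrivial
  obtain ⟨M, hM⟩ := Ideal.exists_maximal (k ⊗[C] E)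
  let : Field ((k ⊗[C] E) ⧸ M) := Ideal.Quotient.field M
  have : Module.Finite k ((k ⊗[C] E) ⧸ M) := finite_of_finite_type_of_isJacobsonRing k _
  have : Algebra.IsIntegral k ((k ⊗[C] E) ⧸ M) := Algebra.IsIntegral.of_finite k _
  let e : k ≃ₐ[k] ((k ⊗[C] E) ⧸ M) := AlgEquiv.ofBijective (Algebra.ofId k _)
    (IsAlgClosed.algebraMap_bijective_of_isIntegral)
  let φ : E →ₐ[C] k := ((e.symm.toAlgHom.comp (Ideal.Quotient.mkₐ k M)).restrictScalars C).comp
    Algebra.TensorProduct.includeRight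
  have hle : C ⊔ Algebra.adjoin k (G : Set A) ≤ E.restrictScalars k :=
    sup_le (fun c hc => E.algebraMap_mem ⟨c, hc⟩) (Algebra.adjoin_le fun x hx => Algebra.subset_adjoin hx)
  refine ⟨(φ.restrictScalars k).comp (Subalgebra.inclusion hle), AlgHom.ext fun c => ?_⟩
  exact φ.commutes c

/-- A sub-Hopf-algebra with a point of the elements coacting through it. -/
structure Partial (ρ : A →ₐ[k] H ⊗[k] A) where
  S : Subalgebra k H
  hS : IsSubHopf k H S
  g : sub ρ S →ₐ[k] k

instance (ρ : A →ₐ[k] H ⊗[k] A) : Preorder (Partial ρ) where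
  le p q := ∃ h : p.S ≤ q.S, q.g.comp (Subalgebra.inclusion (sub_mono ρ h)) = p.g
  le_refl p := ⟨le_rfl, AlgHom.ext fun _ => rfl⟩
  le_trans p q r := fun ⟨h, e⟩ ⟨h', e'⟩ => ⟨h.trans h', by rw [← e, ← e']; rfl⟩

omit [Nontrivial A] in
theorem sub_iSup_le {J : Type u} [Nonempty J] (S : J → Subalgebra k H) (hdir : Directed (· ≤ ·) S) :
    sub ρ (⨆ i, S i) ≤ ⨆ i, sub ρ (S i) := by
  intro a ha
  have key : ∀ z : ↥(⨆ i, S i) ⊗[k] A, ∃ i, Algebra.TensorProduct.map (⨆ i, S i).val (AlgHom.id k A) z ∈ part (S i) := by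
    intro z
    induction z using TensorProduct.induction_on with
    | zero => exact ⟨Classical.arbitrary J, by rw [map_zero]; exact zero_mem _⟩
    | add x y hx hy =>
      obtain ⟨i, hi⟩ := hx
      obtain ⟨j, hj⟩ := hy
      obtain ⟨l, hil, hjl⟩ := hdir i j
      exact ⟨l, by rw [map_add]; exact add_mem (part_mono hil hi) (part_mono hjl hj)⟩
    | tmul h b =>
      have hh : (h : H) ∈ ((⨆ i, S i : Subalgebra k H) : Set H) := h.2
      rw [Subalgebra.coe_iSup_of_directed hdir, Set.mem_iUnion] at hh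
      obtain ⟨i, hi⟩ := hh
      exact ⟨i, ⟨(⟨h, hi⟩ : S i) ⊗ₜ[k] b, rfl⟩⟩
  obtain ⟨z, hz⟩ := ha
  obtain ⟨i, hi⟩ := key z
  exact le_iSup (fun i => sub ρ (S i)) i (show ρ a ∈ part (S i) from hz ▸ hi)

include hρ hbij in
/-- A torsor comodule algebra over an algebraically closed field has a point. -/
theorem exists_point [IsAlgClosed k] : Nonempty (A →ₐ[k] k) := by
  have hbot : sub ρ ⊥ = ⊥ := by
    refine le_bot_iff.1 fun a ha => ?_
    obtain ⟨z, hz⟩ := ha
    obtain ⟨b, hb⟩ : ∃ b : A, ρ a = (1 : H) ⊗ₜ[k] b := by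
      rw [← show _ = ρ a from hz]
      clear hz
      induction z using TensorProduct.induction_on with
      | zero => exact ⟨0, by simp⟩
      | add x y hx hy =>
        obtain ⟨b₁, h₁⟩ := hx
        obtain ⟨b₂, h₂⟩ := hy
        exact ⟨b₁ + b₂, by rw [tmul_add, ← h₁, ← h₂]; exact map_add _ _ _⟩
      | tmul s c =>
        obtain ⟨r, hr⟩ := Algebra.mem_bot.1 s.2
        refine ⟨r • c, ?_⟩
        show (s : H) ⊗ₜ[k] c = _
        rw [← hr, Algebra.algebraMap_eq_smul_one, TensorProduct.smul_tmul]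
    have e : a ⊗ₜ[k] (1 : A) = (1 : A) ⊗ₜ[k] b := hbij.1 (by
      rw [shear_tmul, shear_tmul, map_one, one_mul, ← Algebra.TensorProduct.one_def, mul_one, hb])
    exact mem_of_tmul_one_mem (B := ⊥) ⟨(1 : (⊥ : Subalgebra k A)) ⊗ₜ[k] b, e.symm⟩
  let p₀ : Partial ρ := ⟨⊥, HopfPoints.isSubHopf_bot,
    ((Algebra.botEquiv k A).toAlgHom).comp (Subalgebra.inclusion hbot.le)⟩
  obtain ⟨m, -, hmax⟩ := zorn_le_nonempty_Ici₀ p₀ (fun c _ hc y hy => by
    have : Nonempty c := ⟨⟨y, hy⟩⟩
    have hdir : Directed (· ≤ ·) (fun p : c => p.1.S) := fun p p' => by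
      rcases hc.total p.2 p'.2 with h | h
      · exact ⟨p', h.1, le_rfl⟩
      · exact ⟨p, le_rfl, h.1⟩
    let K := fun p : c => sub ρ p.1.S
    have hdirK : Directed (· ≤ ·) K := fun p p' => by
      obtain ⟨l, h, h'⟩ := hdir p p'
      exact ⟨l, sub_mono ρ h, sub_mono ρ h'⟩
    have hf : ∀ (p p' : c) (h : K p ≤ K p'), p.1.g = p'.1.g.comp (Subalgebra.inclusion h) := by
      intro p p' h
      rcases hc.total p.2 p'.2 with h' | h'
      · exact h'.2.symm
      · ext x
        obtain ⟨h'', e⟩ := h'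
        rw [← e]
        rfl
    have hle : sub ρ (⨆ p : c, p.1.S) ≤ ⨆ p : c, K p := sub_iSup_le _ hdir
    refine ⟨⟨⨆ p : c, p.1.S, HopfPoints.isSubHopf_iSup _ fun p => p.1.hS,
      Subalgebra.iSupLift K hdirK (fun p => p.1.g) hf _ hle⟩, fun z hz => ?_⟩
    refine ⟨le_iSup (fun p : c => p.1.S) ⟨z, hz⟩, ?_⟩
    exact Subalgebra.iSupLift_comp_inclusion (K := K) (dir := hdirK) (f := fun p : c => p.1.g) (hf := hf) (hT := hle)
      (i := ⟨z, hz⟩) _) p₀ le_rfl
  have htop : m.S = ⊤ := by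
    refine top_le_iff.1 fun h _ => ?_
    obtain ⟨D, hhD, hD, hD'⟩ := exists_fg_isSubHopf (k := k) h
    obtain ⟨G, hG⟩ := exists_finset_sub hρ hbij m.hS hD' hD
    obtain ⟨g', hg'⟩ := exists_extend_of_ne_top m.g (map_ker_ne_top hρ hbij m.hS m.g) G
    obtain ⟨hle, -⟩ := hmax (b := ⟨m.S ⊔ D, HopfPoints.isSubHopf_sup m.hS hD',
      g'.comp (Subalgebra.inclusion hG.le)⟩) ⟨le_sup_left, AlgHom.ext fun x => AlgHom.congr_fun hg' x⟩
    exact hle ((le_sup_right : D ≤ m.S ⊔ D) hhD)
  have h₁ : ∀ a : A, a ∈ sub ρ m.S := fun a => by rw [htop, sub_top]; exact Algebra.mem_top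
  exact ⟨m.g.comp ((AlgHom.id k A).codRestrict _ h₁)⟩

end Groth.Agent.AffTorsPt
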